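import Cfsg.Agent.LyCert.Index

/-! The involution `a⁴` of the presented Lyons group. -/

set_option autoImplicit false

namespace CfsgLib.LyInvol

open CfsgLib.CosetEnum CfsgLib.LyG2 CfsgLib.LyCert

/-- The involution `a⁴` in the subgroup `G₂(5)`. -/
noncomputable def tP : P := prodw pl [0, 0, 0, 0]

/-- The involution `a⁴`. -/
noncomputable def tInv : Cfsg.Spor.Ly := psi tP

theorem tInv_eq : tInv = prodw gw [0, 0, 0, 0] := psi_prodw (by decide)

end CfsgLib.LyInvol
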