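import Cfsg.Agent.LyInvol.Ext
import Cfsg.Agent.LyG2.Packed

/-! Kernel checks of the relations of the double cover of `A₁₁` in degree 111. -/

set_option autoImplicit false
set_option maxRecDepth 100000
set_option Elab.async false

namespace CfsgLib.LyInvol

open CfsgLib.LyG2

theorem eTabs_good : (List.range 19).all (fun x => goodX 111 (eTabs x)) = true := by decide +kernel

theorem cubes_ok : chkWords 111 eTabs cubeWords = true := by decide +kernel

theorem pairs_ok : chkWords 111 eTabs pairWords = true := by decide +kernel

theorem tW_ok : chkWords 111 eTabs [tW ++ tW] = true := by decide +kernel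

theorem vals_ok : chkWords 111 eTabs valWords = true := by decide +kernel

end CfsgLib.LyInvol
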