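import Cfsg.Agent.LyInvol.Enum
import Cfsg.Agent.LyInvol.DataK2

/-! The enumeration `K2` checks. -/

set_option autoImplicit false
set_option maxRecDepth 100000
set_option Elab.async false

namespace CfsgLib.LyInvol

open CfsgLib.CosetEnum CfsgLib.LyCert

/-- The certificate `K2`. -/
noncomputable def eK2 : Enum :=
  ⟨((chain2.headD ⟨0, [], [], [], [], []⟩).gens), (chain2.map fun L => L.b), 1008, nodeK2, ordK2, 93, 75⟩

theorem nodesK2 : allR (okNode eK2) 10 0 = true := by decide +kernel

theorem ordsK2 : allR (okOrd eK2) 10 0 = true := by decide +kernel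

theorem validK2 : Valid eK2 10 where
  hN := by show 1008 ≤ 2 ^ 10; norm_num
  hpos := by show 0 < 1008; norm_num
  glow := by decide +kernel
  bpts := by decide +kernel
  nodes := nodesK2
  ords := ordsK2

theorem involK2 : cntR (isInv eK2) 10 0 = 105 := by decide +kernel

end CfsgLib.LyInvol
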