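import Cfsg.Agent.LyInvol.Enum
import Cfsg.Agent.LyInvol.DataK3

/-! The enumeration `K3` checks. -/

set_option autoImplicit false
set_option maxRecDepth 100000
set_option Elab.async false

namespace CfsgLib.LyInvol

open CfsgLib.CosetEnum CfsgLib.LyCert

/-- The certificate `K3`. -/
noncomputable def eK3 : Enum :=
  ⟨((chain3.headD ⟨0, [], [], [], [], []⟩).gens), (chain3.map fun L => L.b), 2880, nodeK3, ordK3, 108, 90⟩

theorem nodesK3 : allR (okNode eK3) 12 0 = true := by decide +kernel

theorem ordsK3 : allR (okOrd eK3) 12 0 = true := by decide +kernel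

theorem validK3 : Valid eK3 12 where
  hN := by show 2880 ≤ 2 ^ 12; norm_num
  hpos := by show 0 < 2880; norm_num
  glow := by decide +kernel
  bpts := by decide +kernel
  nodes := nodesK3
  ords := ordsK3

theorem involK3 : cntR (isInv eK3) 12 0 = 211 := by decide +kernel

end CfsgLib.LyInvol
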