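import Cfsg.Agent.LyInvol.Enum
import Cfsg.Agent.LyInvol.DataK4

/-! The enumeration `K4` checks. -/

set_option autoImplicit false
set_option maxRecDepth 100000
set_option Elab.async false

namespace CfsgLib.LyInvol

open CfsgLib.CosetEnum CfsgLib.LyCert

/-- The certificate `K4`. -/
noncomputable def eK4 : Enum :=
  ⟨((chain4.headD ⟨0, [], [], [], [], []⟩).gens), (chain4.map fun L => L.b), 6048, nodeK4, ordK4, 108, 90⟩

theorem nodesK4 : allR (okNode eK4) 13 0 = true := by decide +kernel

theorem ordsK4 : allR (okOrd eK4) 13 0 = true := by decide +kernel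

theorem validK4 : Valid eK4 13 where
  hN := by show 6048 ≤ 2 ^ 13; norm_num
  hpos := by show 0 < 6048; norm_num
  glow := by decide +kernel
  bpts := by decide +kernel
  nodes := nodesK4
  ords := ordsK4

theorem involK4 : cntR (isInv eK4) 13 0 = 63 := by decide +kernel

end CfsgLib.LyInvol
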