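import Cfsg.Agent.LyInvol.Local
import Cfsg.Agent.LyInvol.EnumK2
import Cfsg.Agent.LyInvol.EnumK3
import Cfsg.Agent.LyInvol.EnumK4
import Cfsg.Agent.LyCert.Order
import Cfsg.Agent.LyLower.Main

/-!
The centraliser of `a⁴` in `Ly` has at most 39916800 elements: the involution fixes at most
`1 + 66 + 1500 + 1055 + 150 = 2772` cosets of `G₂(5)`, and the centraliser inside has at most 14400.
-/

set_option autoImplicit false
set_option maxRecDepth 100000

namespace CfsgLib.LyInvol

open CfsgLib.CosetEnum CfsgLib.LyG2 CfsgLib.LyCert Subgroup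

theorem tP_mul_self : tP * tP = 1 := by
  rw [tP, show prodw pl [0, 0, 0, 0] * prodw pl [0, 0, 0, 0] = prodw pl [0, 0, 0, 0, 0, 0, 0, 0] by
    simp only [prodw, List.map_cons, List.map_nil, List.prod_cons, List.prod_nil, mul_one, mul_assoc]]
  exact eqW_pl tP_sq

theorem tP_ne_one : tP ≠ 1 := by
  intro h
  have hfix : ∀ n < 19530, fixB n = true := fun n hn =>
    fixB_iff (i := ⟨n, hn⟩).2 (by rw [h, map_one]; rfl)
  have := tP_moves
  rw [hfix 7 (by norm_num), hfix 8 (by norm_num), hfix 9 (by norm_num), hfix 10 (by norm_num),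
    hfix 11 (by norm_num)] at this
  simp at this

theorem psi_smul_base_eq {j : ℕ} {g h : P} :
    psi g • LyCert.base j = psi h • LyCert.base j ↔ g⁻¹ * h ∈ K j := by
  rw [LyCert.base, MulAction.Quotient.smul_coe, MulAction.Quotient.smul_coe, smul_eq_mul, smul_eq_mul,
    QuotientGroup.eq, mem_K]
  simp [Same, mul_assoc]

theorem orbit_index {j : ℕ} : Nat.card (MulAction.orbit Hs (LyCert.base j)) = (K j).index := by
  rw [← range_orbit, Subgroup.index]
  refine Nat.card_congr (Equiv.ofBijective (fun x : P ⧸ K j => (Quotient.liftOn' x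
    (fun g => (⟨psi g • LyCert.base j, g, rfl⟩ : Set.range fun g : P => psi g • LyCert.base j)) fun a b hab =>
      Subtype.ext (psi_smul_base_eq.2 (QuotientGroup.leftRel_apply.mp hab)))) ⟨?_, ?_⟩).symm
  · intro x y h
    induction x using Quotient.inductionOn'
    induction y using Quotient.inductionOn'
    exact Quotient.sound' (QuotientGroup.leftRel_apply.mpr (psi_smul_base_eq.1 (congrArg Subtype.val h)))
  · rintro ⟨_, g, rfl⟩; exact ⟨(g : P ⧸ K j), rfl⟩

theorem card_K_eq {j : ℕ} (hj : j < 5) : subSize j * Nat.card (K j) = 5859000000 := by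
  rw [← orbit_eq_of_dvd LyLower.card_dvd hj, orbit_index, Subgroup.index_mul_card, card_P]

theorem wGroup_le_K {i : ℕ} (gs : List (List ℕ))
    (h : gs.all (fun w => (List.range 86).any fun n =>
      !(item n).edge && (Nat.beq (item n).i i && decide ((item n).h = w))) = true) :
    wGroup gs ≤ K i := by
  refine (closure_le _).2 ?_
  rintro _ ⟨w, hw, rfl⟩
  obtain ⟨n, hn, hv⟩ := List.any_eq_true.1 (List.all_eq_true.1 h w hw)
  simp only [Bool.and_eq_true, decide_eq_true_eq, Bool.not_eq_true'] at hv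
  have h := gen_mem_K (List.mem_range.1 hn) hv.1
  rwa [Nat.eq_of_beq_eq_true hv.2.1, hv.2.2] at h

theorem card_invol_K2 : Nat.card {s : P // s ∈ K 2 ∧ s * s = 1 ∧ s ≠ 1} ≤ 105 := by
  refine le_trans (card_invol_le validK2 (wGroup_le_K _ (by decide +kernel)) ?_) involK2.le
  have := card_K_eq (j := 2) (by norm_num)
  show Nat.card (K 2) ≤ 1008
  rw [show subSize 2 = 5812500 from rfl] at this
  omega

theorem card_invol_K3 : Nat.card {s : P // s ∈ K 3 ∧ s * s = 1 ∧ s ≠ 1} ≤ 211 := by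
  refine le_trans (card_invol_le validK3 (wGroup_le_K _ (by decide +kernel)) ?_) involK3.le
  have := card_K_eq (j := 3) (by norm_num)
  show Nat.card (K 3) ≤ 2880
  rw [show subSize 3 = 2034375 from rfl] at this
  omega

theorem card_invol_K4 : Nat.card {s : P // s ∈ K 4 ∧ s * s = 1 ∧ s ≠ 1} ≤ 63 := by
  refine le_trans (card_invol_le validK4 (wGroup_le_K _ (by decide +kernel)) ?_) involK4.le
  have := card_K_eq (j := 4) (by norm_num)
  show Nat.card (K 4) ≤ 6048
  rw [show subSize 4 = 968750 from rfl] at this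
  omega

theorem chain1_fix : ((chain1.headD ⟨0, [], [], [], [], []⟩).gens).all
    (fun w => low w && Nat.beq (walk w 0) 0) = true := by decide +kernel

theorem K1_eq : K 1 = M0 := by
  set gs := (chain1.headD ⟨0, [], [], [], [], []⟩).gens
  have h1 : wGroup gs ≤ K 1 := wGroup_le_K _ (by decide +kernel)
  have h2 : wGroup gs ≤ M0 := by
    refine (closure_le _).2 ?_
    rintro _ ⟨w, hw, rfl⟩
    have h := List.all_eq_true.1 chain1_fix w hw
    rw [Bool.and_eq_true] at h
    refine (M0.inv_mem_iff).1 (mem_M0.2 (Fin.ext ?_))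
    rw [pt, map_inv, act_word (lt_of_low h.1)]
    exact Nat.eq_of_beq_eq_true h.2
  have hc : 300000 ≤ Nat.card (wGroup gs) :=
    le_trans (le_of_eq (show 300000 = chainSize chain1 by decide +kernel)) (chain_bound _ _ chain1_ok)
  have hK := card_K_eq (j := 1) (by norm_num)
  rw [show subSize 1 = 19530 from rfl] at hK
  rw [← eq_of_le_of_card_ge h1 (by omega), eq_of_le_of_card_ge h2 (le_trans card_M0 hc)]

/-- The fixed cosets in a suborbit. -/
def fixOrb (j : ℕ) : Set (Cfsg.Spor.Ly ⧸ Hs) :=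
  {x | tInv • x = x ∧ ∃ g : P, psi g • LyCert.base j = x}

theorem fixOrb_spec {j : ℕ} {x : Cfsg.Spor.Ly ⧸ Hs} {g : P} (hx : tInv • x = x)
    (hg : psi g • LyCert.base j = x) : g⁻¹ * tP * g ∈ K j := by
  rw [← hg, tInv, smul_smul, ← map_mul] at hx
  have := psi_smul_base_eq.1 hx.symm
  rwa [← mul_assoc] at this

theorem card_fixOrb_mul (j : ℕ) :
    Nat.card (fixOrb j) * Nat.card (K j) ≤
      Nat.card {s : P // s ∈ K j ∧ s * s = 1 ∧ s ≠ 1} * 14400 := by
  classical
  let S : Set P := {g | g⁻¹ * tP * g ∈ K j}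
  have h1 : Nat.card (fixOrb j) * Nat.card (K j) ≤ Nat.card S := by
    rw [← Nat.card_prod]
    have hspec : ∀ x : fixOrb j, ∃ g : P, psi g • LyCert.base j = x.1 ∧ g⁻¹ * tP * g ∈ K j := fun x => by
      obtain ⟨hx, g, hg⟩ := x.2; exact ⟨g, hg, fixOrb_spec hx hg⟩
    choose g hg hgK using hspec
    refine Nat.card_le_card_of_injective (fun p : fixOrb j × K j => (⟨g p.1 * p.2, ?_⟩ : S)) ?_
    · show (g p.1 * p.2.1)⁻¹ * tP * (g p.1 * p.2.1) ∈ K j
      rw [show (g p.1 * p.2.1)⁻¹ * tP * (g p.1 * p.2.1) =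
        p.2.1⁻¹ * ((g p.1)⁻¹ * tP * g p.1) * p.2.1 by simp only [mul_inv_rev, mul_assoc]]
      exact mul_mem (mul_mem (inv_mem p.2.2) (hgK p.1)) p.2.2
    · rintro ⟨x, k⟩ ⟨y, l⟩ h
      have e : g x * k.1 = g y * l.1 := congrArg Subtype.val h
      obtain rfl : x = y := Subtype.ext (by
        rw [← hg x, ← hg y, psi_smul_base_eq,
          show (g x)⁻¹ * g y = k.1 * l.1⁻¹ by rw [inv_mul_eq_iff_eq_mul, ← mul_assoc, e,
            mul_inv_cancel_right]]
        exact mul_mem k.2 (inv_mem l.2))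
      exact Prod.ext rfl (Subtype.ext (mul_left_cancel e))
  refine le_trans h1 (le_trans ?_ (Nat.mul_le_mul_left _ card_local_le))
  rw [← Nat.card_prod]
  let I := {s : P // s ∈ K j ∧ s * s = 1 ∧ s ≠ 1}
  let f : S → I := fun g => ⟨g.1⁻¹ * tP * g.1, g.2,
    by rw [show g.1⁻¹ * tP * g.1 * (g.1⁻¹ * tP * g.1) = g.1⁻¹ * (tP * tP) * g.1 by group,
      tP_mul_self, mul_one, inv_mul_cancel],
    fun h => tP_ne_one (by
      have := congrArg (fun z => g.1 * z * g.1⁻¹) h
      simpa [mul_assoc] using this)⟩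
  have hrep : ∀ g : S, ∃ h : S, f h = f g := fun g => ⟨g, rfl⟩
  let r : I → P := fun i => if h : ∃ g : S, f g = i then h.choose.1 else 1
  have hr : ∀ g : S, (r (f g))⁻¹ * tP * r (f g) = g.1⁻¹ * tP * g.1 := fun g => by
    have h : ∃ h : S, f h = f g := hrep g
    simp only [r, dif_pos h]
    exact congrArg Subtype.val h.choose_spec
  refine Nat.card_le_card_of_injective (fun g : S =>
    (f g, (⟨g.1 * (r (f g))⁻¹, mem_centralizer_iff.2 fun h hh => ?_⟩ : centralizer ({tP} : Set P)))) ?_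
  · rw [Set.mem_singleton_iff.1 hh]
    have e := congrArg (fun z => g.1 * z * (r (f g))⁻¹) (hr g)
    simpa [mul_assoc] using e.symm
  · intro a b h
    have e1 := congrArg Prod.fst h
    have e2 := congrArg (fun p => (Prod.snd p).1) h
    simp only at e1 e2
    rw [e1] at e2
    exact Subtype.ext (mul_right_cancel e2)

theorem card_fixOrb_zero : Nat.card (fixOrb 0) ≤ 1 := by
  haveI : Subsingleton (fixOrb 0) := ⟨by
    rintro ⟨_, -, g, rfl⟩ ⟨_, -, h, rfl⟩
    refine Subtype.ext (psi_smul_base_eq.2 (mem_K.2 ?_))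
    simpa [Same, repv_zero] using psi_mem (g⁻¹ * h)⟩
  exact Finite.card_le_one_iff_subsingleton.2 inferInstance

theorem card_fixOrb_one : Nat.card (fixOrb 1) ≤ 66 := by
  refine le_trans ?_ (le_trans (card_le_cnt fixB 15 (by norm_num)) cnt_fix.le)
  have hspec : ∀ x : fixOrb 1, ∃ g : P, psi g • LyCert.base 1 = x.1 ∧ fixB (pt g) = true := fun x => by
    obtain ⟨hx, g, hg⟩ := x.2
    have h := fixOrb_spec hx hg
    rw [K1_eq, mem_M0, mul_assoc, pt_mul, map_inv, Equiv.Perm.inv_eq_iff_eq, pt_mul] at h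
    refine ⟨g, hg, fixB_iff.2 ?_⟩
    exact h.trans (by rw [pt])
  choose g hg hgf using hspec
  refine Nat.card_le_card_of_injective
    (fun x => (⟨pt (g x), hgf x⟩ : {i : Pt | fixB i = true})) fun x y h => Subtype.ext ?_
  have e : pt (g x) = pt (g y) := congrArg Subtype.val h
  rw [← hg x, ← hg y, psi_smul_base_eq, K1_eq, mem_M0, pt_mul, map_inv, Equiv.Perm.inv_eq_iff_eq]
  exact e.symm

theorem card_fix_le : Nat.card {x : Cfsg.Spor.Ly ⧸ Hs | tInv • x = x} ≤ 2772 := by
  have hsum : Nat.card {x : Cfsg.Spor.Ly ⧸ Hs | tInv • x = x} ≤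
      ∑ j : Fin 5, Nat.card (fixOrb j) := by
    rw [← Nat.card_sigma]
    refine Nat.card_le_card_of_surjective
      (fun p => (⟨p.2.1, p.2.2.1⟩ : {x : Cfsg.Spor.Ly ⧸ Hs | tInv • x = x})) ?_
    rintro ⟨x, hx⟩
    obtain ⟨j, hj, g, rfl⟩ := exists_orbit x
    exact ⟨⟨⟨j, hj⟩, ⟨_, hx, g, rfl⟩⟩, rfl⟩
  have b0 := card_fixOrb_zero
  have b1 := card_fixOrb_one
  have b2 : Nat.card (fixOrb 2) * 1008 ≤ 105 * 14400 := by
    have := card_K_eq (j := 2) (by norm_num)
    rw [show subSize 2 = 5812500 from rfl] at this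
    rw [show 1008 = Nat.card (K 2) by omega]
    exact le_trans (card_fixOrb_mul 2) (Nat.mul_le_mul_right _ card_invol_K2)
  have b3 : Nat.card (fixOrb 3) * 2880 ≤ 211 * 14400 := by
    have := card_K_eq (j := 3) (by norm_num)
    rw [show subSize 3 = 2034375 from rfl] at this
    rw [show 2880 = Nat.card (K 3) by omega]
    exact le_trans (card_fixOrb_mul 3) (Nat.mul_le_mul_right _ card_invol_K3)
  have b4 : Nat.card (fixOrb 4) * 6048 ≤ 63 * 14400 := by
    have := card_K_eq (j := 4) (by norm_num)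
    rw [show subSize 4 = 968750 from rfl] at this
    rw [show 6048 = Nat.card (K 4) by omega]
    exact le_trans (card_fixOrb_mul 4) (Nat.mul_le_mul_right _ card_invol_K4)
  simp only [Fin.sum_univ_five, Fin.val_zero, Fin.val_one, Fin.val_two] at hsum
  simp only [show ((3 : Fin 5) : ℕ) = 3 from rfl, show ((4 : Fin 5) : ℕ) = 4 from rfl] at hsum
  omega

/-- The centraliser of the involution `a⁴` has at most 39916800 elements. -/
theorem card_le : Nat.card (centralizer ({tInv} : Set Cfsg.Spor.Ly)) ≤ 39916800 := by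
  refine le_trans (card_le_image_mul (MulAction.toPermHom Cfsg.Spor.Ly (Cfsg.Spor.Ly ⧸ Hs)) _
    ((centralizer ({tP} : Set P)).map psi) ((1 : Cfsg.Spor.Ly) : Cfsg.Spor.Ly ⧸ Hs)
    {x | tInv • x = x} (fun c hc => ?_) (fun c hc he => ?_)) ?_
  · show tInv • c • ((1 : Cfsg.Spor.Ly) : Cfsg.Spor.Ly ⧸ Hs) = c • ((1 : Cfsg.Spor.Ly) : Cfsg.Spor.Ly ⧸ Hs)
    rw [smul_smul, mem_centralizer_iff.1 hc tInv rfl, ← smul_smul]
    congr 1
    rw [MulAction.Quotient.smul_coe, smul_eq_mul, QuotientGroup.eq]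
    simpa [tInv] using Hs.inv_mem (psi_mem tP)
  · have hcH : c ∈ Hs := by
      have he' : ((c * 1 : Cfsg.Spor.Ly) : Cfsg.Spor.Ly ⧸ Hs) = ((1 : Cfsg.Spor.Ly) : _) := he
      simpa using Hs.inv_mem (QuotientGroup.eq.1 he')
    rw [← range_psi] at hcH
    obtain ⟨p, rfl⟩ := hcH
    refine mem_map_of_mem _ (mem_centralizer_iff.2 fun h hh => ?_)
    rw [Set.mem_singleton_iff.1 hh]
    apply psi_injective
    rw [map_mul, map_mul]
    exact mem_centralizer_iff.1 hc tInv rfl
  · rw [card_map_of_injective psi_injective]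
    exact le_trans (Nat.mul_le_mul card_fix_le card_local_le) (by norm_num)

end CfsgLib.LyInvol
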