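import Cfsg.Agent.LyInvol.Check
import Cfsg.Agent.LyInvol.Upper
import Cfsg.Agent.LyG2.Rep.Hom
import Cfsg.Agent.BoundedAlt.Carmichael
import Cfsg.Prelude.Def_SporadicB
import Mathlib.GroupTheory.SpecificGroups.Alternating.Simple

/-!
The centraliser of `a⁴` in `Ly` is a non-split double cover of `A₁₁`: nine words centralise the involution and
satisfy Carmichael's relations up to it, so the centraliser reaches the upper bound.
-/

set_option autoImplicit false
set_option maxRecDepth 100000

namespace CfsgLib.LyInvol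

open CfsgLib.CosetEnum CfsgLib.LyG2 CfsgLib.LyCert Cfsg.Spor Subgroup
open scoped MatrixGroups

/-- The five generators. -/
def genLy : ℕ → Ly.Gen
  | 0 => .a
  | 1 => .b
  | 2 => .c
  | 3 => .d
  | _ => .z

/-- A letter of the representation, in `Ly`. -/
def rl (x : ℕ) : Cfsg.Spor.Ly := lv (fun i => toLy (FreeGroup.of (genLy i))) x

/-- The nine elements. -/
def eGen (i : Fin 9) : Cfsg.Spor.Ly := prodw rl (eWords.getD i.val [])

theorem hom_rl {x : ℕ} (hx : x < 10) : Rep.hom (rl x) = Rep.letter x := by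
  have h : ∀ i < 5, Rep.hom (toLy (FreeGroup.of (genLy i))) = Rep.unitOf (Fin.ofNat 5 i) := by
    intro i hi
    show Rep.hom (PresentedGroup.of (genLy i)) = _
    rw [Rep.hom, PresentedGroup.toGroup.of]
    interval_cases i <;> simp [genLy, Rep.image, Rep.genWord, prodw, Rep.letter, lv_eq]
  rw [rl, map_lv, Rep.letter, lv_eq, lv_eq, h _ (by omega)]

theorem tInv_eq_rl : tInv = prodw rl tW := by
  have h : gw 0 = rl 0 := congrArg toLy (show fl18 0 = FreeGroup.of Ly.Gen.a by decide +kernel)
  rw [tInv_eq, tW]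
  simp only [prodw, List.map_cons, List.map_nil, h]

/-- The matrix of an extended letter. -/
def eMat (x : ℕ) : Matrix (Fin 111) (Fin 111) (ZMod 5) := toX 111 (eTabs x)

theorem eMat_small {x : ℕ} (hx : x < 10) : eMat x = Rep.mat x := by
  interval_cases x <;> rfl

theorem coe_hom_prodw {w : List ℕ} (h : ∀ x ∈ w, x < 10) :
    ((Rep.hom (prodw rl w) : GL (Fin 111) (ZMod 5)) : Matrix (Fin 111) (Fin 111) (ZMod 5)) = (w.map eMat).prod := by
  have e : Rep.hom (prodw rl w) = prodw Rep.letter w := by
    simp only [prodw, map_list_prod, List.map_map]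
    congr 1
    exact List.map_congr_left fun x hx => hom_rl (h x hx)
  rw [e, Rep.coe_prodw h]
  congr 1
  exact List.map_congr_left fun x hx => (eMat_small (h x hx)).symm

theorem eWord_one {ws : List (List ℕ)} (hc : chkWords 111 eTabs ws = true) {w : List ℕ}
    (hl : ∀ x ∈ w, x < 19) (hm : w ∈ ws) : (w.map eMat).prod = 1 :=
  chk_word (by norm_num) eTabs Rep.one_ok
    (fun x hx => List.all_eq_true.1 eTabs_good x (List.mem_range.2 (hl x hx))) hc hm

theorem eWords_lt (i : Fin 9) : ∀ x ∈ eWords.getD i.val [], x < 10 := by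
  have h : ∀ i : Fin 9, (eWords.getD i.val []).all (fun x => Nat.blt x 10) = true := by decide +kernel
  exact fun x hx => Nat.le_of_ble_eq_true (List.all_eq_true.1 (h i) x hx)

theorem eMat_cube (i : Fin 9) : eMat (10 + i.val) * (eMat (10 + i.val) * eMat (10 + i.val)) = 1 := by
  have h := eWord_one cubes_ok (w := [10 + i.val, 10 + i.val, 10 + i.val])
    (by simp; omega) (List.mem_append_left _ (List.mem_map.2 ⟨i.val, List.mem_range.2 i.isLt, rfl⟩))
  simpa using h

theorem coe_hom_eGen (i : Fin 9) :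
    ((Rep.hom (eGen i) : GL (Fin 111) (ZMod 5)) : Matrix (Fin 111) (Fin 111) (ZMod 5)) = eMat (10 + i.val) := by
  have h := eWord_one vals_ok (w := eWords.getD i.val [] ++ [10 + i.val, 10 + i.val])
    (fun x hx => by
      rcases List.mem_append.1 hx with h | h
      · have := eWords_lt i x h; omega
      · simp at h; omega)
    (List.mem_map.2 ⟨i.val, List.mem_range.2 i.isLt, rfl⟩)
  rw [List.map_append, List.prod_append] at h
  simp only [List.map_cons, List.map_nil, List.prod_cons, List.prod_nil, mul_one] at h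
  rw [eGen, coe_hom_prodw (eWords_lt i)]
  calc ((eWords.getD i.val []).map eMat).prod
      = ((eWords.getD i.val []).map eMat).prod * (eMat (10 + i.val) * (eMat (10 + i.val) * eMat (10 + i.val))) := by
        rw [eMat_cube, mul_one]
    _ = eMat (10 + i.val) := by
      rw [← mul_assoc (eMat (10 + i.val)) (eMat (10 + i.val)), ← mul_assoc, h, one_mul]

theorem coe_hom_tInv : ((Rep.hom tInv : GL (Fin 111) (ZMod 5)) : Matrix (Fin 111) (Fin 111) (ZMod 5)) =
    (tW.map eMat).prod := by
  rw [tInv_eq_rl, coe_hom_prodw (by simp [tW])]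

theorem hom_injective : Function.Injective Rep.hom := by
  haveI := CfsgLib.LyCert.isSimple_of_dvd CfsgLib.LyLower.card_dvd
  rcases Rep.hom.normal_ker.eq_bot_or_eq_top with h | h
  · exact (MonoidHom.ker_eq_bot_iff _).1 h
  · exfalso
    have h1 : Rep.hom (rl 0) = 1 := MonoidHom.mem_ker.1 (h ▸ Subgroup.mem_top _)
    rw [hom_rl (by norm_num), Units.ext_iff, Rep.coe_letter (by norm_num), Units.val_one] at h1
    exact Rep.mat_a (by rw [h1, Matrix.one_apply_eq])

theorem eq_of_hom {g h : Cfsg.Spor.Ly}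
    (e : ((Rep.hom g : GL (Fin 111) (ZMod 5)) : Matrix (Fin 111) (Fin 111) (ZMod 5)) =
      ((Rep.hom h : GL (Fin 111) (ZMod 5)) : Matrix (Fin 111) (Fin 111) (ZMod 5))) : g = h :=
  hom_injective (Units.ext e)

theorem tInv_ne_one : tInv ≠ 1 := fun h => tP_ne_one (psi_injective (h.trans (map_one psi).symm))

theorem tInv_mul_self : tInv * tInv = 1 := by
  rw [tInv, ← map_mul, tP_mul_self, map_one]

/-- The element `a⁴` is an involution. -/
theorem orderOf_tInv : orderOf tInv = 2 := orderOf_eq_prime (by rw [pow_two, tInv_mul_self]) tInv_ne_one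

theorem eGen_cube (i : Fin 9) : eGen i ^ 3 = 1 := by
  refine eq_of_hom ?_
  simp only [pow_three, map_mul, map_one, Units.val_mul, Units.val_one, coe_hom_eGen, eMat_cube]

theorem eGen_commute (i : Fin 9) : Commute (eGen i) tInv := by
  have h := eWord_one cubes_ok (w := tW ++ [10 + i.val] ++ tW ++ [10 + i.val, 10 + i.val])
    (fun x hx => by simp [tW] at hx; omega)
    (List.mem_append_right _ (List.mem_map.2 ⟨i.val, List.mem_range.2 i.isLt, rfl⟩))
  simp only [List.map_append, List.prod_append, List.map_cons, List.map_nil, List.prod_cons, List.prod_nil,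
    mul_one] at h
  have h1 : tInv * eGen i * tInv * (eGen i * eGen i) = 1 := by
    refine eq_of_hom ?_
    simp only [map_mul, map_one, Units.val_mul, Units.val_one, coe_hom_eGen, coe_hom_tInv]
    exact h
  have h2 : tInv * eGen i * tInv = eGen i := by
    calc tInv * eGen i * tInv = tInv * eGen i * tInv * eGen i ^ 3 := by rw [eGen_cube, mul_one]
      _ = tInv * eGen i * tInv * (eGen i * eGen i) * eGen i := by simp [pow_three, mul_assoc]
      _ = eGen i := by rw [h1, one_mul]
  calc eGen i * tInv = tInv * tInv * (eGen i * tInv) := by rw [tInv_mul_self, one_mul]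
    _ = tInv * (tInv * eGen i * tInv) := by simp [mul_assoc]
    _ = tInv * eGen i := by rw [h2]

theorem eGen_pair_lt {i j : Fin 9} (hij : i < j) : (eGen i * eGen j) ^ 2 = tInv := by
  have h := eWord_one pairs_ok (w := [10 + i.val, 10 + j.val, 10 + i.val, 10 + j.val] ++ tW)
    (fun x hx => by simp [tW] at hx; omega)
    (List.mem_flatMap.2 ⟨i.val, List.mem_range.2 i.isLt, List.mem_filterMap.2
      ⟨j.val, List.mem_range.2 j.isLt, by rw [if_pos (show i.val < j.val from hij)]⟩⟩)
  simp only [List.map_append, List.prod_append, List.map_cons, List.map_nil, List.prod_cons, List.prod_nil,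
    mul_one] at h
  have h1 : (eGen i * eGen j) ^ 2 * tInv = 1 := by
    refine eq_of_hom ?_
    simp only [pow_two, map_mul, map_one, Units.val_mul, Units.val_one, coe_hom_eGen, coe_hom_tInv, mul_assoc] at h ⊢
    exact h
  calc (eGen i * eGen j) ^ 2 = (eGen i * eGen j) ^ 2 * (tInv * tInv) := by rw [tInv_mul_self, mul_one]
    _ = tInv := by rw [← mul_assoc, h1, one_mul]

theorem eGen_pair {i j : Fin 9} (hij : i ≠ j) : (eGen i * eGen j) ^ 2 = tInv := by
  rcases lt_or_gt_of_ne hij with h | h
  · exact eGen_pair_lt h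
  · calc (eGen i * eGen j) ^ 2 = (eGen j)⁻¹ * (eGen j * eGen i) ^ 2 * eGen j := by simp [pow_two, mul_assoc]
      _ = tInv := by rw [eGen_pair_lt h, mul_assoc, ← (eGen_commute j).eq, inv_mul_cancel_left]

/-- The alternating groups of types of one size are isomorphic. -/
noncomputable def altReindex {α β : Type*} [Fintype α] [DecidableEq α] [Fintype β] [DecidableEq β] (c : α ≃ β) :
    alternatingGroup α ≃* alternatingGroup β :=
  (c.permCongrHom.subgroupMap (alternatingGroup α)).trans (MulEquiv.subgroupCongr (by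
    ext s
    show s ∈ Subgroup.map c.permCongrHom.toMonoidHom _ ↔ _
    rw [Subgroup.mem_map_equiv, Equiv.Perm.mem_alternatingGroup, Equiv.Perm.mem_alternatingGroup]
    obtain ⟨s, rfl⟩ := c.permCongrHom.surjective s
    rw [MulEquiv.symm_apply_apply]
    exact iff_of_eq (congrArg (· = 1) (Equiv.Perm.sign_permCongr c s).symm)))

/-- The involution in its centraliser. -/
noncomputable def tC : centralizer ({tInv} : Set Cfsg.Spor.Ly) :=
  ⟨tInv, mem_centralizer_singleton_iff.2 rfl⟩

theorem commute_tC (g : centralizer ({tInv} : Set Cfsg.Spor.Ly)) : Commute g tC :=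
  Subtype.ext (mem_centralizer_singleton_iff.1 g.2)

instance : (zpowers tC).Normal :=
  ⟨fun x hx g => by
    obtain ⟨k, rfl⟩ := hx
    rw [((commute_tC g).zpow_right k).eq, mul_inv_cancel_right]
    exact zpow_mem_zpowers _ k⟩

/-- The elements of the centraliser. -/
def eC (i : Fin 9) : centralizer ({tInv} : Set Cfsg.Spor.Ly) :=
  ⟨eGen i, mem_centralizer_singleton_iff.2 (eGen_commute i).eq⟩

theorem orderOf_tC : orderOf tC = 2 := by
  rw [← orderOf_tInv, ← Subgroup.orderOf_coe]; rfl

theorem eC_pair {i j : Fin 9} (hij : i ≠ j) : (eC i * eC j) ^ 2 = tC := Subtype.ext (eGen_pair hij)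

theorem eC_cube (i : Fin 9) : eC i ^ 3 = 1 := Subtype.ext (eGen_cube i)

theorem exists_eC_notMem : ∃ i, eC i ∉ zpowers tC := by
  by_contra! h
  have h1 : ∀ i, eC i = 1 := fun i => by
    refine orderOf_eq_one_iff.1 (Nat.dvd_one.1 ?_)
    have h2 : orderOf (eC i) ∣ 2 := orderOf_tC ▸ orderOf_dvd_of_mem_zpowers (h i)
    have h3 : orderOf (eC i) ∣ 3 := orderOf_dvd_of_pow_eq_one (eC_cube i)
    exact Nat.dvd_gcd h2 h3
  have h2 := eC_pair (show (0 : Fin 9) ≠ 1 by decide)
  rw [h1, h1, one_mul, one_pow] at h2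
  have h3 := orderOf_tC
  rw [← h2, orderOf_one] at h3
  omega

theorem center_alt_eq_bot {α : Type*} [Fintype α] [DecidableEq α] (h5 : 5 ≤ Nat.card α) :
    Subgroup.center (alternatingGroup α) = ⊥ := by
  haveI := alternatingGroup.isSimpleGroup (α := α) h5
  refine (IsSimpleGroup.eq_bot_or_eq_top_of_normal _ inferInstance).resolve_right fun h => ?_
  obtain ⟨a, b, c, hab, hac, hbc⟩ : ∃ a b c : α, a ≠ b ∧ a ≠ c ∧ b ≠ c := by
    rw [← Fintype.two_lt_card_iff, ← Nat.card_eq_fintype_card]; omega
  obtain ⟨d, hda, hdb, hdc⟩ : ∃ d : α, d ≠ a ∧ d ≠ b ∧ d ≠ c := by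
    by_contra! hd
    have : (Finset.univ : Finset α) ⊆ {a, b, c} := fun x _ => by
      simp only [Finset.mem_insert, Finset.mem_singleton]
      by_cases h1 : x = a
      · exact Or.inl h1
      by_cases h2 : x = b
      · exact Or.inr (Or.inl h2)
      exact Or.inr (Or.inr (hd x h1 h2))
    have := (Finset.card_le_card this).trans Finset.card_le_three
    rw [Finset.card_univ, ← Nat.card_eq_fintype_card] at this
    omega
  have hm : ∀ x y z : α, x ≠ y → x ≠ z → y ≠ z →
      Equiv.swap x y * Equiv.swap x z ∈ alternatingGroup α := fun x y z hxy hxz _ => by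
    rw [Equiv.Perm.mem_alternatingGroup, Equiv.Perm.sign_mul, Equiv.Perm.sign_swap hxy, Equiv.Perm.sign_swap hxz]
    rfl
  have hc := congrArg (fun g : alternatingGroup α => (g : Equiv.Perm α) c)
    (Subgroup.mem_center_iff.1 (h ▸ Subgroup.mem_top (⟨_, hm a b c hab hac hbc⟩ : alternatingGroup α))
      ⟨_, hm a b d hab hda.symm hdb.symm⟩)
  simp [Equiv.swap_apply_def, hab, hac, hbc, hda, hdb, hdc, hab.symm, hac.symm, hbc.symm, hda.symm, hdb.symm,
    hdc.symm] at hc

theorem structure_centralizer :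
    Nat.card (centralizer ({tInv} : Set Cfsg.Spor.Ly)) = 39916800 ∧
      Cfsg.IsNonsplitDoubleCover (centralizer ({tInv} : Set Cfsg.Spor.Ly)) (alternatingGroup (Fin 11)) := by
  haveI : Finite Cfsg.Spor.Ly := Nat.finite_of_card_ne_zero (by
    rw [CfsgLib.LyCert.card_eq_of_dvd CfsgLib.LyLower.card_dvd]; norm_num)
  set C := centralizer ({tInv} : Set Cfsg.Spor.Ly)
  set N := zpowers tC
  let x : Fin 9 → C ⧸ N := fun i => QuotientGroup.mk (eC i)
  have hx : BoundedAlt.IsCarmichael x :=
    ⟨fun i => by rw [← QuotientGroup.mk_pow, eC_cube]; rfl, fun i j hij => by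
      rw [← QuotientGroup.mk_mul, ← QuotientGroup.mk_pow, eC_pair hij, QuotientGroup.eq_one_iff]
      exact mem_zpowers _⟩
  obtain ⟨f, hf⟩ := hx.exists_hom
  haveI := alternatingGroup.isSimpleGroup (α := Fin 9 ⊕ Fin 2) (by simp)
  have hinj : Function.Injective f := by
    rcases f.normal_ker.eq_bot_or_eq_top with h | h
    · exact (MonoidHom.ker_eq_bot_iff f).1 h
    · obtain ⟨i, hi⟩ := exists_eC_notMem
      refine absurd ?_ hi
      rw [← QuotientGroup.eq_one_iff]
      exact (hf i).symm.trans (MonoidHom.mem_ker.1 (h ▸ Subgroup.mem_top _))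
  have hA : Nat.card (alternatingGroup (Fin 9 ⊕ Fin 2)) = 19958400 := by
    rw [Nat.card_congr (altReindex (finSumFinEquiv : Fin 9 ⊕ Fin 2 ≃ Fin 11)).toEquiv, Nat.card_eq_fintype_card]
    have := two_mul_card_alternatingGroup (α := Fin 11)
    rw [Fintype.card_perm, Fintype.card_fin] at this
    rw [show Nat.factorial 11 = 39916800 by rfl] at this
    show Fintype.card (alternatingGroup (Fin 11)) = _
    omega
  have hN : Nat.card N = 2 := by rw [Nat.card_zpowers, orderOf_tC]
  have hmul : Nat.card C = Nat.card (C ⧸ N) * Nat.card N := Subgroup.card_eq_card_quotient_mul_card_subgroup N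
  have hge := Nat.card_le_card_of_injective f hinj
  rw [hA] at hge
  have hle : Nat.card C ≤ 39916800 := card_le
  rw [hN] at hmul
  have hcard : Nat.card C = 39916800 := by omega
  have hbij : Function.Bijective f := (Nat.bijective_iff_injective_and_card f).2 ⟨hinj, by rw [hA]; omega⟩
  let e := MulEquiv.ofBijective f hbij
  have hz : Subgroup.center C = N := by
    refine le_antisymm (fun z hz => ?_) (zpowers_le.2 (Subgroup.mem_center_iff.2 fun g => (commute_tC g).eq))
    have h1 : e.symm (z : C ⧸ N) ∈ Subgroup.center (alternatingGroup (Fin 9 ⊕ Fin 2)) := by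
      refine Subgroup.mem_center_iff.2 fun a => e.injective ?_
      rw [map_mul, map_mul, e.apply_symm_apply]
      obtain ⟨g, hg⟩ := QuotientGroup.mk_surjective (e a)
      rw [← hg, ← QuotientGroup.mk_mul, ← QuotientGroup.mk_mul, Subgroup.mem_center_iff.1 hz g]
    rw [center_alt_eq_bot (by simp), Subgroup.mem_bot] at h1
    rw [← QuotientGroup.eq_one_iff, ← e.apply_symm_apply (z : C ⧸ N), h1, map_one]
  refine ⟨hcard, by rw [hz, hN], ⟨((QuotientGroup.quotientMulEquivOfEq hz).trans e.symm).trans
    (altReindex finSumFinEquiv)⟩, fun L hL => ?_⟩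
  rw [hz] at hL
  have hidx : L.index = 2 := by rw [hL.index_eq_card, hN]
  have hmem : ∀ i, eC i ∈ L := fun i => by
    have h := Subgroup.mul_self_mem_of_index_two hidx (eC i * eC i)
    rwa [show eC i * eC i * (eC i * eC i) = eC i ^ 3 * eC i by simp [pow_three, mul_assoc], eC_cube, one_mul] at h
  have h0 : tC ∈ L := by
    rw [← eC_pair (show (0 : Fin 9) ≠ 1 by decide)]
    exact pow_mem (mul_mem (hmem 0) (hmem 1)) 2
  have h1 : tC ∈ (⊥ : Subgroup C) := (disjoint_iff.1 hL.disjoint) ▸ ⟨mem_zpowers tC, h0⟩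
  have h3 := orderOf_tC
  rw [Subgroup.mem_bot.1 h1, orderOf_one] at h3
  omega

/-- The order of the centraliser of `a⁴`. -/
theorem card_centralizer : Nat.card (centralizer ({tInv} : Set Cfsg.Spor.Ly)) = 39916800 :=
  structure_centralizer.1

/-- The centraliser of `a⁴` is a non-split double cover of `A₁₁`. -/
theorem isDoubleCover_tInv :
    Cfsg.IsNonsplitDoubleCover (centralizer ({tInv} : Set Cfsg.Spor.Ly)) (alternatingGroup (Fin 11)) :=
  structure_centralizer.2

end CfsgLib.LyInvol
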