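import Cfsg.Agent.LyCert.Chain

/-!
Enumerations of subgroups of `G₂(5)` by images of base points: every node has a parent and a
generator, the keys are strictly increasing in the given order, so the elements of the nodes are
distinct; from this an upper bound on point stabilisers and on the number of involutions.
-/

set_option autoImplicit false
set_option maxRecDepth 100000

namespace CfsgLib.LyInvol

open CfsgLib.CosetEnum CfsgLib.LyG2 CfsgLib.LyCert Subgroup

/-- A certificate: generators, base points, the number of nodes, the nodes and their order. -/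
structure Enum where
  /-- Words of the generators. -/
  gens : List (List ℕ)
  /-- Base points. -/
  bases : List ℕ
  /-- Number of nodes. -/
  N : ℕ
  /-- Chunks of nodes: key, parent, generator. -/
  node : ℕ → ℕ
  /-- Chunks of the increasing order of keys. -/
  ord : ℕ → ℕ
  /-- Number of bits of a node. -/
  width : ℕ
  /-- Number of bits of a key. -/
  kbits : ℕ

/-- The images of base points as one number. -/
def pack (l : List ℕ) : ℕ :=
  List.rec 0 (fun q _ ih => Nat.add q (Nat.mul 32768 ih)) l

theorem pack_cons (q : ℕ) (l : List ℕ) : pack (q :: l) = q + 32768 * pack l := rfl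

/-- Push a packed tuple through a word. -/
noncomputable def move (n : ℕ) (w : List ℕ) (k : ℕ) : ℕ :=
  Nat.rec (fun _ => 0)
    (fun _ ih k => Nat.add (walk w (Nat.mod k 32768)) (Nat.mul 32768 (force (Nat.div k 32768) ih))) n k

theorem move_pack (w : List ℕ) : ∀ l : List ℕ, (∀ q ∈ l, q < 32768) →
    move l.length w (pack l) = pack (l.map (walk w))
  | [], _ => rfl
  | q :: l, h => by
    have hq := h q List.mem_cons_self
    show walk w (pack (q :: l) % 32768) + 32768 * force (pack (q :: l) / 32768) (move l.length w) = _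
    rw [force_eq, pack_cons, Nat.add_mul_mod_self_left, Nat.mod_eq_of_lt hq,
      Nat.add_mul_div_left _ _ (by norm_num : (0 : ℕ) < 32768), Nat.div_eq_of_lt hq, zero_add,
      move_pack w l fun r hr => h r (List.mem_cons_of_mem q hr), List.map_cons, pack_cons]

variable (E : Enum)

/-- The entry of a node. -/
noncomputable def entry (j : ℕ) : ℕ :=
  look E.node 64 E.width (2 ^ E.width - 1) j

/-- The key of a node. -/
noncomputable def key (j : ℕ) : ℕ := Nat.land (entry E j) (2 ^ E.kbits - 1)

/-- The parent of a node. -/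
noncomputable def par (j : ℕ) : ℕ := Nat.land (Nat.shiftRight (entry E j) E.kbits) 8191

/-- The generator of a node. -/
noncomputable def gix (j : ℕ) : ℕ := Nat.shiftRight (entry E j) (Nat.add E.kbits 13)

/-- The word of a generator. -/
def gw' (g : ℕ) : List ℕ := E.gens.getD g []

/-- Node `t` in the increasing order. -/
noncomputable def ordAt (t : ℕ) : ℕ := look E.ord 256 13 8191 t

/-- The check of a node. -/
noncomputable def okNode (j : ℕ) : Bool :=
  bif Nat.blt j E.N then
    bif Nat.beq j 0 then Nat.beq (key E j) (pack E.bases)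
    else Nat.blt (par E j) j && (Nat.blt (gix E j) E.gens.length &&
      Nat.beq (move E.bases.length (gw' E (gix E j)) (key E (par E j))) (key E j))
  else true

/-- The check of the order. -/
noncomputable def okOrd (t : ℕ) : Bool :=
  bif Nat.blt t E.N then
    Nat.blt (ordAt E t) E.N && (Nat.beq t 0 || Nat.blt (key E (ordAt E (Nat.sub t 1))) (key E (ordAt E t)))
  else true

/-- The image of a key under the element of a node. -/
noncomputable def pushPath (fuel j k : ℕ) : ℕ :=
  Nat.rec (fun _ k => k)
    (fun _ ih j k => bif Nat.beq j 0 then k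
      else force (ih (par E j) k) fun k' => move E.bases.length (gw' E (gix E j)) k') fuel j k

/-- A node other than the root whose element squares to the identity on the base points. -/
noncomputable def isInv (j : ℕ) : Bool :=
  bif Nat.blt 0 j && Nat.blt j E.N then Nat.beq (pushPath E E.N j (key E j)) (pack E.bases) else false

/-- How often `f` holds on `[lo, lo + 2 ^ d)`. -/
def cntR (f : ℕ → Bool) (d lo : ℕ) : ℕ :=
  Nat.rec (fun lo => bif f lo then 1 else 0)
    (fun d ih lo => force (ih lo) fun a => Nat.add a (ih (Nat.add lo (Nat.pow 2 d)))) d lo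

theorem cntR_eq (f : ℕ → Bool) : ∀ d lo,
    cntR f d lo = ((Finset.Ico lo (lo + 2 ^ d)).filter fun i => f i = true).card := by
  intro d
  induction d with
  | zero =>
    intro lo
    show (bif f lo then 1 else 0) = _
    rw [pow_zero, Nat.Ico_succ_singleton, Finset.filter_singleton]
    cases f lo <;> simp
  | succ d ih =>
    intro lo
    show force (cntR f d lo) (fun a => Nat.add a (cntR f d (lo + 2 ^ d))) = _
    rw [force_eq, Nat.add_eq, ih lo, ih (lo + 2 ^ d), pow_succ, Nat.mul_two, ← add_assoc,
      ← Finset.card_union_of_disjoint, ← Finset.filter_union,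
      Finset.Ico_union_Ico_eq_Ico (Nat.le_add_right _ _) (Nat.le_add_right _ _)]
    exact Finset.disjoint_filter_filter (Finset.Ico_disjoint_Ico_consecutive _ _ _)

/-- The certificate holds. -/
structure Valid (d : ℕ) : Prop where
  /-- The range covers all nodes. -/
  hN : E.N ≤ 2 ^ d
  /-- There is a root. -/
  hpos : 0 < E.N
  /-- Generators are words in the sixteen letters. -/
  glow : E.gens.all low = true
  /-- Base points are points. -/
  bpts : E.bases.all (fun q => Nat.blt q 19530) = true
  /-- The nodes check. -/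
  nodes : allR (okNode E) d 0 = true
  /-- The order checks. -/
  ords : allR (okOrd E) d 0 = true

/-- The images of the base points under an element. -/
noncomputable def keyOf (s : P) : ℕ :=
  pack (E.bases.map fun q => if h : q < 19530 then ((act s)⁻¹ ⟨q, h⟩).val else q)

variable {E} {d : ℕ}

theorem keyOf_mul (hv : Valid E d) (s : P) {w : List ℕ} (hw : ∀ x ∈ w, x < 16) :
    keyOf E (s * prodw pl w) = move E.bases.length w (keyOf E s) := by
  have hb : ∀ q ∈ E.bases, q < 19530 := fun q hq =>
    Nat.le_of_ble_eq_true (List.all_eq_true.1 hv.bpts q hq)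
  rw [keyOf, keyOf, ← List.length_map
    (f := fun q => if h : q < 19530 then ((act s)⁻¹ ⟨q, h⟩).val else q) (as := E.bases),
    move_pack, List.map_map]
  · refine congrArg pack (List.map_congr_left fun q hq => ?_)
    simp only [Function.comp_apply, dif_pos (hb q hq), map_mul, mul_inv_rev, Equiv.Perm.mul_apply,
      act_word hw]
  · intro r hr
    obtain ⟨q, hq, rfl⟩ := List.mem_map.1 hr
    simp only [dif_pos (hb q hq)]
    exact lt_trans (Fin.isLt _) (by norm_num)

theorem keyOf_one : keyOf E 1 = pack E.bases := by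
  rw [keyOf]
  refine congrArg pack ((List.map_congr_left fun q _ => ?_).trans (List.map_id _))
  split <;> simp

theorem gw'_spec (hv : Valid E d) {g : ℕ} (hg : g < E.gens.length) :
    (∀ x ∈ gw' E g, x < 16) ∧ prodw pl (gw' E g) ∈ wGroup E.gens := by
  rw [gw', List.getD_eq_getElem _ _ hg]
  exact ⟨lt_of_low (List.all_eq_true.1 hv.glow _ (List.getElem_mem hg)),
    wGroup_mono (List.getElem_mem hg)⟩

theorem node_spec (hv : Valid E d) {j : ℕ} (hj : j < E.N) :
    (j = 0 ∧ key E j = pack E.bases) ∨ (j ≠ 0 ∧ par E j < j ∧ gix E j < E.gens.length ∧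
      move E.bases.length (gw' E (gix E j)) (key E (par E j)) = key E j) := by
  have h := allR_spec d 0 hv.nodes j (Nat.zero_le _) (by have := hv.hN; omega)
  rw [okNode, show Nat.blt j E.N = true from Nat.ble_eq_true_of_le hj, cond_true] at h
  cases h0 : Nat.beq j 0
  · rw [h0, cond_false, Bool.and_eq_true, Bool.and_eq_true] at h
    exact Or.inr ⟨fun e => by subst e; simp at h0, Nat.le_of_ble_eq_true h.1,
      Nat.le_of_ble_eq_true h.2.1, Nat.eq_of_beq_eq_true h.2.2⟩
  · rw [h0, cond_true] at h
    exact Or.inl ⟨Nat.eq_of_beq_eq_true h0, Nat.eq_of_beq_eq_true h⟩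

/-- The element of a node, with fuel. -/
noncomputable def eltF (E : Enum) : ℕ → ℕ → P
  | 0, _ => 1
  | fuel + 1, j => if j = 0 then 1 else eltF E fuel (par E j) * prodw pl (gw' E (gix E j))

theorem eltF_spec (hv : Valid E d) : ∀ (fuel j : ℕ), j ≤ fuel → j < E.N →
    eltF E fuel j ∈ wGroup E.gens ∧ keyOf E (eltF E fuel j) = key E j ∧
      ∀ u : P, pushPath E fuel j (keyOf E u) = keyOf E (u * eltF E fuel j) := by
  intro fuel
  induction fuel with
  | zero =>
    intro j hj hN
    obtain rfl : j = 0 := Nat.le_zero.1 hj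
    rcases node_spec hv hN with ⟨-, hk⟩ | ⟨h, -⟩
    · exact ⟨one_mem _, by rw [eltF, keyOf_one, hk], fun u => by rw [eltF, mul_one]; rfl⟩
    · exact absurd rfl h
  | succ fuel ih =>
    intro j hj hN
    rcases node_spec hv hN with ⟨rfl, hk⟩ | ⟨h0, hp, hg, hk⟩
    · rw [eltF, if_pos rfl]
      exact ⟨one_mem _, by rw [keyOf_one, hk], fun u => by rw [mul_one]; rfl⟩
    · obtain ⟨hs, hks, hpush⟩ := ih (par E j) (by omega) (lt_trans hp hN)
      obtain ⟨hl, hm⟩ := gw'_spec hv hg
      rw [eltF, if_neg h0]
      refine ⟨mul_mem hs hm, by rw [keyOf_mul hv _ hl, hks, hk], fun u => ?_⟩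
      have hb : Nat.beq j 0 = false := by
        cases h : Nat.beq j 0
        · rfl
        · exact absurd (Nat.eq_of_beq_eq_true h) h0
      show (bif Nat.beq j 0 then keyOf E u
        else force (pushPath E fuel (par E j) (keyOf E u)) fun k' =>
          move E.bases.length (gw' E (gix E j)) k') = _
      rw [hb, cond_false, force_eq, hpush, ← keyOf_mul hv _ hl, mul_assoc]

/-- The element of a node. -/
noncomputable def elt (E : Enum) (j : ℕ) : P := eltF E E.N j

theorem elt_spec (hv : Valid E d) {j : ℕ} (hj : j < E.N) :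
    elt E j ∈ wGroup E.gens ∧ keyOf E (elt E j) = key E j ∧
      ∀ u : P, pushPath E E.N j (keyOf E u) = keyOf E (u * elt E j) :=
  eltF_spec hv E.N j hj.le hj

/-- Distinct nodes have distinct keys. -/
theorem key_injective (hv : Valid E d) : ∀ a < E.N, ∀ b < E.N, key E a = key E b → a = b := by
  have hord : ∀ t < E.N, ordAt E t < E.N ∧
      (t = 0 ∨ key E (ordAt E (t - 1)) < key E (ordAt E t)) := by
    intro t ht
    have h := allR_spec d 0 hv.ords t (Nat.zero_le _) (by have := hv.hN; omega)
    rw [okOrd, show Nat.blt t E.N = true from Nat.ble_eq_true_of_le ht, cond_true,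
      Bool.and_eq_true, Bool.or_eq_true] at h
    exact ⟨Nat.le_of_ble_eq_true h.1, h.2.imp Nat.eq_of_beq_eq_true Nat.le_of_ble_eq_true⟩
  let f : Fin E.N → Fin E.N := fun t => ⟨ordAt E t, (hord t t.isLt).1⟩
  have hmono : StrictMono fun t : Fin E.N => key E (f t).val := by
    intro s t hst
    obtain ⟨s, hs⟩ := s
    obtain ⟨t, ht⟩ := t
    have hst' : s < t := hst
    show key E (ordAt E s) < key E (ordAt E t)
    induction t with
    | zero => exact absurd hst' (Nat.not_lt_zero s)
    | succ t ih =>
      have h1 := ((hord (t + 1) ht).2).resolve_left (Nat.succ_ne_zero t)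
      rw [Nat.add_sub_cancel] at h1
      rcases Nat.lt_succ_iff_lt_or_eq.1 hst' with h | h
      · exact lt_trans (ih (by omega) h h) h1
      · subst h; exact h1
  have hf : Function.Surjective f := Finite.surjective_of_injective fun a b h =>
    hmono.injective (congrArg (fun x : Fin E.N => key E x.val) h)
  intro a ha b hb h
  obtain ⟨s, hs⟩ := hf ⟨a, ha⟩
  obtain ⟨t, ht⟩ := hf ⟨b, hb⟩
  have e : key E (f s).val = key E (f t).val := by rw [hs, ht]; exact h
  have hab : f s = f t := by rw [hmono.injective e]
  rw [hs, ht] at hab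
  exact congrArg Fin.val hab

theorem elt_injective (hv : Valid E d) {a b : ℕ} (ha : a < E.N) (hb : b < E.N)
    (h : elt E a = elt E b) : a = b :=
  key_injective hv a ha b hb (by rw [← (elt_spec hv ha).2.1, ← (elt_spec hv hb).2.1, h])

theorem card_le_wGroup (hv : Valid E d) : E.N ≤ Nat.card (wGroup E.gens) := by
  have := Nat.card_le_card_of_injective
    (fun t : Fin E.N => (⟨elt E t, (elt_spec hv t.isLt).1⟩ : wGroup E.gens))
    (fun a b h => Fin.ext (elt_injective hv a.isLt b.isLt (congrArg Subtype.val h)))
  rwa [Nat.card_fin] at this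

/-- The stabiliser of the base points in a group containing the generators. -/
theorem stab_bound (hv : Valid E d) {K S : Subgroup P} (hgen : wGroup E.gens ≤ K) (hSK : S ≤ K)
    (hS' : ∀ s ∈ S, ∀ u : P, keyOf E (s * u) = keyOf E u) :
    E.N * Nat.card S ≤ Nat.card K := by
  rw [← Nat.card_fin E.N, ← Nat.card_prod]
  refine Nat.card_le_card_of_injective
    (fun p : Fin E.N × S => (⟨p.2.val * elt E p.1, mul_mem (hSK p.2.2) (hgen (elt_spec hv p.1.isLt).1)⟩ : K))
    ?_
  rintro ⟨a, s⟩ ⟨b, s'⟩ h
  have e : s.val * elt E a = s'.val * elt E b := congrArg Subtype.val h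
  have hk := congrArg (keyOf E) e
  rw [hS' _ s.2, hS' _ s'.2, (elt_spec hv a.isLt).2.1, (elt_spec hv b.isLt).2.1] at hk
  obtain rfl : a = b := Fin.ext (key_injective hv a a.isLt b b.isLt hk)
  exact Prod.ext rfl (Subtype.ext (mul_right_cancel e))

/-- The involutions of a subgroup with as many elements as nodes. -/
theorem card_invol_le (hv : Valid E d) {K : Subgroup P} (hgen : wGroup E.gens ≤ K)
    (hK : Nat.card K ≤ E.N) :
    Nat.card {s : P // s ∈ K ∧ s * s = 1 ∧ s ≠ 1} ≤ cntR (isInv E) d 0 := by
  rw [cntR_eq, zero_add]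
  have hsurj : ∀ s ∈ K, ∃ t : Fin E.N, elt E t = s := by
    intro s hs
    have hinj : Function.Injective
        (fun t : Fin E.N => (⟨elt E t, hgen (elt_spec hv t.isLt).1⟩ : K)) :=
      fun a b h => Fin.ext (elt_injective hv a.isLt b.isLt (congrArg Subtype.val h))
    obtain ⟨t, ht⟩ := (hinj.bijective_of_nat_card_le (by rwa [Nat.card_fin])).2 ⟨s, hs⟩
    exact ⟨t, congrArg Subtype.val ht⟩
  have helt0 : elt E 0 = 1 := by
    unfold elt
    cases E.N with
    | zero => rfl
    | succ n => rw [eltF, if_pos rfl]
  choose g hg using fun x : {s : P // s ∈ K ∧ s * s = 1 ∧ s ≠ 1} => hsurj x.1 x.2.1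
  have hmem : ∀ x, (g x).val ∈ (Finset.Ico 0 (2 ^ d)).filter fun i => isInv E i = true := by
    intro x
    have hd := hv.hN
    have hlt := (g x).isLt
    refine Finset.mem_filter.2 ⟨Finset.mem_Ico.2 ⟨Nat.zero_le _, by omega⟩, ?_⟩
    have hne : (g x).val ≠ 0 := fun h => x.2.2.2 (by rw [← hg x, h, helt0])
    rw [isInv, show Nat.blt 0 (g x).val = true from Nat.ble_eq_true_of_le (Nat.pos_of_ne_zero hne),
      show Nat.blt (g x).val E.N = true from Nat.ble_eq_true_of_le (g x).isLt, Bool.and_self,
      cond_true]
    obtain ⟨-, hk, hp⟩ := elt_spec hv (g x).isLt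
    rw [← hk, hp, hg x, x.2.2.1, keyOf_one]
    exact Nat.beq_refl _
  have := Nat.card_le_card_of_injective
    (fun x => (⟨(g x).val, hmem x⟩ :
      {i // i ∈ (Finset.Ico 0 (2 ^ d)).filter fun i => isInv E i = true}))
    (fun x y h => Subtype.ext (by
      rw [← hg x, ← hg y]; exact congrArg (fun t => elt E t) (congrArg Subtype.val h)))
  simpa only [Nat.card_eq_fintype_card, Fintype.card_coe] using this

end CfsgLib.LyInvol
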