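import Cfsg.Agent.LyInvol.Enum
import Cfsg.Agent.LyInvol.DataM5
import Cfsg.Agent.LyCert.Index

/-! The enumeration `M5` checks. -/

set_option autoImplicit false
set_option maxRecDepth 100000
set_option Elab.async false

namespace CfsgLib.LyInvol

open CfsgLib.CosetEnum CfsgLib.LyCert

/-- The certificate `M5`. -/
noncomputable def eM5 : Enum :=
  ⟨mList, [5], 3125, nodeM5, ordM5, 33, 15⟩

theorem nodesM5 : allR (okNode eM5) 12 0 = true := by decide +kernel

theorem ordsM5 : allR (okOrd eM5) 12 0 = true := by decide +kernel

theorem validM5 : Valid eM5 12 where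
  hN := by show 3125 ≤ 2 ^ 12; norm_num
  hpos := by show 0 < 3125; norm_num
  glow := by decide +kernel
  bpts := by decide +kernel
  nodes := nodesM5
  ords := ordsM5

end CfsgLib.LyInvol
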