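import Mathlib.Data.Nat.Notation

set_option autoImplicit false
set_option linter.style.longLine false

/-! Words in `a, b, c, d, z` for the generators of the double cover of `A₁₁` (generated data). -/

namespace CfsgLib.LyInvol

/-- The words. -/
def eWords : List (List ℕ) := [
  [3, 7, 8, 6, 8, 2],
  [3, 1, 9, 2, 3, 0, 2, 8],
  [3, 8, 0, 2, 9, 3, 1, 2],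
  [1, 8, 2, 8, 2, 1, 3, 7, 7],
  [3, 9, 3, 1, 2, 3, 8, 0, 2, 2],
  [9, 8, 4, 3, 4, 3, 2, 1, 1, 1, 1, 3, 2, 5, 2, 5, 9, 1, 1, 1, 1, 8, 4, 3, 4, 3, 2, 1, 1, 1, 1, 3, 2, 5, 2, 5, 9, 1, 1, 1, 1, 8, 4, 3, 4, 3, 2, 7, 8, 6, 8, 3, 2, 5, 2, 5, 9, 0, 0, 0, 0, 8, 4, 3, 4, 3, 2, 0, 0, 0, 0, 3, 2, 5, 2, 5, 9, 0, 0, 0, 0, 8, 4, 3, 4, 3, 2, 0, 0, 0, 0, 3, 2, 5, 2, 5, 9, 8],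
  [2, 0, 4, 2, 4, 0, 2, 0, 0, 0, 0, 3, 1, 5, 3, 5, 1, 0, 0, 0, 0, 0, 4, 2, 4, 0, 2, 0, 0, 0, 0, 3, 1, 5, 3, 5, 1, 0, 0, 0, 0, 0, 4, 2, 4, 0, 2, 7, 8, 6, 8, 3, 1, 5, 3, 5, 1, 1, 1, 1, 1, 0, 4, 2, 4, 0, 2, 1, 1, 1, 1, 3, 1, 5, 3, 5, 1, 1, 1, 1, 1, 0, 4, 2, 4, 0, 2, 1, 1, 1, 1, 3, 1, 5, 3, 5, 1, 3],
  [8, 8, 4, 3, 4, 3, 2, 1, 1, 1, 1, 3, 2, 5, 2, 5, 9, 1, 1, 1, 1, 8, 4, 3, 4, 3, 2, 1, 1, 1, 1, 3, 2, 5, 2, 5, 9, 1, 1, 1, 1, 8, 4, 3, 4, 3, 2, 7, 8, 6, 8, 3, 2, 5, 2, 5, 9, 0, 0, 0, 0, 8, 4, 3, 4, 3, 2, 0, 0, 0, 0, 3, 2, 5, 2, 5, 9, 0, 0, 0, 0, 8, 4, 3, 4, 3, 2, 0, 0, 0, 0, 3, 2, 5, 2, 5, 9, 9],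
  [8, 4, 3, 4, 3, 2, 1, 1, 1, 1, 3, 2, 5, 2, 5, 9, 1, 1, 1, 1, 8, 4, 3, 4, 3, 2, 1, 1, 1, 1, 3, 2, 5, 2, 5, 9, 1, 1, 1, 1, 8, 4, 3, 4, 3, 2, 7, 8, 6, 3, 0, 2, 3, 2, 5, 2, 5, 9, 0, 0, 0, 0, 8, 4, 3, 4, 3, 2, 0, 0, 0, 0, 3, 2, 5, 2, 5, 9, 0, 0, 0, 0, 8, 4, 3, 4, 3, 2, 0, 0, 0, 0, 3, 2, 5, 2, 5, 9]]

end CfsgLib.LyInvol
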