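import Cfsg.Agent.LyG2.Rep.Tabs
import Cfsg.Agent.LyInvol.Tab0
import Cfsg.Agent.LyInvol.Tab1
import Cfsg.Agent.LyInvol.Tab2
import Cfsg.Agent.LyInvol.Tab3
import Cfsg.Agent.LyInvol.Tab4
import Cfsg.Agent.LyInvol.Tab5
import Cfsg.Agent.LyInvol.Tab6
import Cfsg.Agent.LyInvol.Tab7
import Cfsg.Agent.LyInvol.Tab8
import Cfsg.Agent.LyInvol.Words

/-!
Ten letters of the representation of degree 111 of `Ly` and nine further letters for the images of
the generators of the double cover of `A₁₁`, with the words of the relations among them.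
-/

set_option autoImplicit false

namespace CfsgLib.LyInvol

/-- The table of an extended letter. -/
def eTabs : ℕ → ℕ
  | 0 => LyG2.Rep.tabs 0
  | 1 => LyG2.Rep.tabs 1
  | 2 => LyG2.Rep.tabs 2
  | 3 => LyG2.Rep.tabs 3
  | 4 => LyG2.Rep.tabs 4
  | 5 => LyG2.Rep.tabs 5
  | 6 => LyG2.Rep.tabs 6
  | 7 => LyG2.Rep.tabs 7
  | 8 => LyG2.Rep.tabs 8
  | 9 => LyG2.Rep.tabs 9
  | 10 => eTab0
  | 11 => eTab1
  | 12 => eTab2
  | 13 => eTab3
  | 14 => eTab4
  | 15 => eTab5
  | 16 => eTab6
  | 17 => eTab7
  | 18 => eTab8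
  | _ => 0

/-- The involution `a⁴`. -/
def tW : List ℕ := [0, 0, 0, 0]

/-- Word `i` followed by the inverse of generator `i`. -/
def valWords : List (List ℕ) :=
  (List.range 9).map fun i => eWords.getD i [] ++ [10 + i, 10 + i]

/-- The cubes and the commutators with the involution. -/
def cubeWords : List (List ℕ) :=
  (List.range 9).map (fun i => [10 + i, 10 + i, 10 + i]) ++
    (List.range 9).map (fun i => tW ++ [10 + i] ++ tW ++ [10 + i, 10 + i])

/-- The squares of products of two generators, times the involution. -/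
def pairWords : List (List ℕ) :=
  (List.range 9).flatMap fun i => (List.range 9).filterMap fun j =>
    if i < j then some ([10 + i, 10 + j, 10 + i, 10 + j] ++ tW) else none

end CfsgLib.LyInvol
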