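import Cfsg.Agent.LyInvol.Points
import Cfsg.Agent.LyInvol.EnumM5
import Cfsg.Agent.LyInvol.Basic
import Mathlib.GroupTheory.GroupAction.Quotient

/-!
The centraliser of `a⁴` in `G₂(5)` has at most 14400 elements: at most 30 images of the point `0`,
at most 5 images of the point `5` under those fixing `0`, and at most 96 elements fixing both.
-/

set_option autoImplicit false
set_option maxRecDepth 100000

namespace CfsgLib.LyInvol

open CfsgLib.CosetEnum CfsgLib.LyG2 CfsgLib.LyCert Subgroup

/-- A subgroup is at most the number of possible images of a point times a bound for the stabiliser. -/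
theorem card_le_image_mul {G α : Type*} [Group G] [Finite G] [Finite α] (φ : G →* Equiv.Perm α)
    (C S : Subgroup G) (a : α) (T : Set α) (hT : ∀ c ∈ C, φ c a ∈ T)
    (hS : ∀ c ∈ C, φ c a = a → c ∈ S) : Nat.card C ≤ Nat.card T * Nat.card S := by
  classical
  have hex : ∀ p : T, (∃ c ∈ C, φ c a = p.1) → ∃ c : C, φ c a = p.1 :=
    fun _ ⟨c, hc, he⟩ => ⟨⟨c, hc⟩, he⟩
  let σ : T → C := fun p => if h : ∃ c ∈ C, φ c a = p.1 then (hex p h).choose else 1
  have hσ : ∀ c : C, φ (σ ⟨_, hT c c.2⟩) a = φ c a := fun c => by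
    have h : ∃ d ∈ C, φ d a = φ c a := ⟨c, c.2, rfl⟩
    simp only [σ, dif_pos h]
    exact (hex ⟨_, hT c c.2⟩ h).choose_spec
  rw [← Nat.card_prod]
  refine Nat.card_le_card_of_injective (fun c : C => ((⟨φ c a, hT c c.2⟩ : T),
    (⟨((σ ⟨φ c a, hT c c.2⟩)⁻¹ * c).1, hS _ ((σ ⟨φ c a, hT c c.2⟩)⁻¹ * c).2 (by
      rw [Subgroup.coe_mul, Subgroup.coe_inv, map_mul, map_inv, Equiv.Perm.mul_apply,
        Equiv.Perm.inv_eq_iff_eq]
      exact (hσ c).symm)⟩ : S))) fun c d h => ?_
  have h1 := congrArg Prod.fst h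
  have h2 := congrArg (fun p => (Prod.snd p).1) h
  simp only [Subgroup.coe_mul, Subgroup.coe_inv] at h2
  rw [show σ ⟨φ c a, hT c c.2⟩ = σ ⟨φ d a, hT d d.2⟩ from congrArg σ h1] at h2
  exact Subtype.ext (mul_left_cancel h2)

/-- The points passing a test are at most as many as counted. -/
theorem card_le_cnt (f : ℕ → Bool) (d : ℕ) (hd : 19530 ≤ 2 ^ d) :
    Nat.card {i : Pt | f i = true} ≤ cntR f d 0 := by
  rw [cntR_eq, zero_add]
  have := Nat.card_le_card_of_injective
    (fun i : {i : Pt | f i = true} => (⟨i.1.val, Finset.mem_filter.2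
      ⟨Finset.mem_Ico.2 ⟨Nat.zero_le _, lt_of_lt_of_le i.1.isLt hd⟩, i.2⟩⟩ :
      {n // n ∈ (Finset.Ico 0 (2 ^ d)).filter fun n => f n = true}))
    (fun i j h => Subtype.ext (Fin.ext (congrArg Subtype.val h)))
  simpa only [Nat.card_eq_fintype_card, Fintype.card_coe] using this

theorem fixB_iff {i : Pt} : fixB i = true ↔ act tP i = i := by
  rw [fixB, show Nat.blt (i : ℕ) 19530 = true from Nat.ble_eq_true_of_le i.isLt, cond_true]
  have e := act_word (w := [0, 0, 0, 0]) (by decide) i
  constructor
  · intro h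
    have h' : (act tP)⁻¹ i = i := Fin.ext (e.trans (Nat.eq_of_beq_eq_true h))
    conv_lhs => rw [← h']
    rw [← Equiv.Perm.mul_apply, mul_inv_cancel, Equiv.Perm.one_apply]
  · intro h
    rw [← e, show (act (prodw pl [0, 0, 0, 0]))⁻¹ i = i from by
      rw [Equiv.Perm.inv_eq_iff_eq]; exact h.symm]
    exact Nat.beq_refl _

theorem fixB_lt {n : ℕ} (h : fixB n = true) : n < 19530 := by
  rw [fixB] at h
  cases hb : Nat.blt n 19530
  · rw [hb, cond_false] at h; exact absurd h Bool.false_ne_true
  · exact Nat.le_of_ble_eq_true hb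

theorem commute_of_mem {c : P} (hc : c ∈ centralizer ({tP} : Set P)) : tP * c = c * tP :=
  mem_centralizer_iff.1 hc tP rfl

theorem fix_act {c : P} (hc : c ∈ centralizer ({tP} : Set P)) {i : Pt} (hi : fixB i = true) :
    fixB (act c i) = true := by
  rw [fixB_iff] at hi ⊢
  rw [← Equiv.Perm.mul_apply, ← map_mul, commute_of_mem hc, map_mul, Equiv.Perm.mul_apply, hi]

theorem block_act (s : P) : ∀ i j : Pt, i.val / 5 = j.val / 5 →
    (act s i).val / 5 = (act s j).val / 5 ∧ ((act s)⁻¹ i).val / 5 = ((act s)⁻¹ j).val / 5 := by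
  have hs : s ∈ closure (Set.range (PresentedGroup.of (rels := relSet))) := by
    rw [PresentedGroup.closure_range_of]; exact mem_top _
  have hlet : ∀ x < 16, ∀ i j : Pt, i.val / 5 = j.val / 5 → img x i / 5 = img x j / 5 := by
    intro x hx i j hij
    have h : ∀ k : Pt, img x k / 5 = img x (5 * (k.val / 5)) / 5 := by
      intro k
      have h := allR_spec 15 0 (List.all_eq_true.1 blocks_ok x (List.mem_range.2 hx)) k
        (Nat.zero_le _) (by have := k.isLt; omega)
      rw [okBlock, show Nat.blt (k : ℕ) 19530 = true from Nat.ble_eq_true_of_le k.isLt, cond_true] at h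
      exact Nat.eq_of_beq_eq_true h
    rw [h i, h j, hij]
  induction hs using closure_induction with
  | mem y hy =>
    obtain ⟨k, rfl⟩ := hy
    have e : PresentedGroup.of k = pl (2 * k.val) := by
      rw [pl, lv_eq, if_pos (by omega)]
      exact congrArg _ (Fin.ext (by
        simp only [Fin.val_ofNat, Nat.mul_div_cancel_left _ (by norm_num : 0 < 2),
          Nat.mod_eq_of_lt k.isLt]))
    have hk : 2 * k.val < 16 := by omega
    intro i j hij
    refine ⟨?_, ?_⟩
    · rw [e, act_pl hk, show letPerm (2 * k.val) = (letPerm (iv (2 * k.val)))⁻¹ by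
        rw [letPerm_iv hk, inv_inv], letPerm_inv_apply (iv_lt hk), letPerm_inv_apply (iv_lt hk)]
      exact hlet _ (iv_lt hk) i j hij
    · rw [e, act_pl hk, letPerm_inv_apply hk, letPerm_inv_apply hk]
      exact hlet _ hk i j hij
  | one => intro i j hij; simpa using And.intro hij hij
  | mul a b _ _ ha hb =>
    intro i j hij
    simp only [map_mul, mul_inv_rev, Equiv.Perm.mul_apply]
    exact ⟨(ha _ _ (hb i j hij).1).1, (hb _ _ (ha i j hij).2).2⟩
  | inv a _ ha =>
    intro i j hij
    simp only [map_inv, inv_inv]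
    exact ⟨(ha i j hij).2, (ha i j hij).1⟩

theorem base_fix : ∀ i : Pt, i.val ≤ 5 → fixB i = true := by
  intro i hi
  have h := base_ok
  simp only [Bool.and_eq_true] at h
  obtain ⟨h0, h1, h2, h3, h4, h5⟩ := h
  have : ∀ n, n ≤ 5 → fixB n = true := by intro n hn; interval_cases n <;> assumption
  exact this _ hi

theorem block_of_centralizer {c : P} (hc : c ∈ centralizer ({tP} : Set P)) :
    blockB (act c 0) = true := by
  have h0 : fixB (act c 0) = true := fix_act hc (base_fix 0 (by norm_num))
  have hall : ∀ r, r < 5 → fixB (5 * ((act c 0).val / 5) + r) = true := by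
    intro r hr
    have hlt : 5 * ((act c 0).val / 5) + r < 19530 := by have := (act c 0).isLt; omega
    have hb := (block_act c (act c 0) ⟨_, hlt⟩ (by show _ = (5 * _ + r) / 5; omega)).2
    rw [Equiv.Perm.inv_def, Equiv.symm_apply_apply, show ((0 : Pt).val) / 5 = 0 from rfl] at hb
    have := fix_act hc (base_fix ((act c).symm ⟨_, hlt⟩) (by omega))
    rwa [Equiv.apply_symm_apply] at this
  rw [blockB, h0, cond_true, force_eq]
  simp only [Nat.add_eq, Nat.mul_eq, Bool.and_eq_true]
  exact ⟨hall 0 (by norm_num), hall 1 (by norm_num), hall 2 (by norm_num), hall 3 (by norm_num),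
    hall 4 (by norm_num)⟩

theorem five_act {s : P} (hs : s ∈ M0) :
    ∀ i : Pt, inFive i = true → inFive (act s i) = true := by
  let S : Set Pt := {i | inFive i = true}
  suffices h : Set.MapsTo (act s) S S ∧ Set.MapsTo (act s).symm S S from fun i hi => h.1 hi
  have key : ∀ g : Equiv.Perm Pt, Set.MapsTo g S S → Set.MapsTo g.symm S S := by
    intro g hg i hi
    obtain ⟨j, hj, rfl⟩ := (S.toFinite.injOn_iff_bijOn_of_mapsTo hg).1 g.injective.injOn |>.surjOn hi
    rwa [Equiv.symm_apply_apply]
  rw [← wGroup_mList] at hs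
  induction hs using closure_induction with
  | mem y hy =>
    obtain ⟨w, hw, rfl⟩ := hy
    have hl : ∀ x ∈ w, x < 16 := by
      obtain ⟨k, hk, rfl⟩ := List.mem_map.1 hw
      exact (mList_spec (List.mem_range.1 hk)).1
    have h1 : Set.MapsTo (act (prodw pl w)).symm S S := by
      intro i hi
      have h := allR_spec 15 0 five_ok i (Nat.zero_le _) (by have := i.isLt; omega)
      rw [okFive, show Nat.blt (i : ℕ) 19530 = true from Nat.ble_eq_true_of_le i.isLt, cond_true,
        show inFive i = true from hi, cond_true] at h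
      show inFive ((act (prodw pl w))⁻¹ i) = true
      rw [act_word hl]
      exact List.all_eq_true.1 h w hw
    exact ⟨key _ h1, h1⟩
  | one => rw [map_one]; exact ⟨fun _ h => h, fun _ h => h⟩
  | mul a b _ _ ha hb => rw [map_mul]; exact ⟨ha.1.comp hb.1, hb.2.comp ha.2⟩
  | inv a _ ha => rw [map_inv]; exact ⟨ha.2, ha.1⟩

theorem card_M0 : Nat.card M0 ≤ 300000 := by
  have := card_M0_le
  omega

instance finite_P : Finite P := Nat.finite_of_card_ne_zero (by rw [card_P]; norm_num)

/-- The stabiliser of `0` and `5` has at most 96 elements. -/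
theorem card_stab_le : Nat.card (M0 ⊓ (MulAction.stabilizer (Equiv.Perm Pt) (5 : Pt)).comap act :
    Subgroup P) ≤ 96 := by
  set S : Subgroup P := M0 ⊓ (MulAction.stabilizer (Equiv.Perm Pt) (5 : Pt)).comap act
  have h := stab_bound (E := eM5) validM5 (K := M0) (S := S) (le_of_eq wGroup_mList) inf_le_left ?_
  · have := card_M0
    have : eM5.N = 3125 := rfl
    rw [this] at h
    omega
  · intro s hs u
    have h5 : (act s)⁻¹ (5 : Pt) = 5 := by
      rw [Equiv.Perm.inv_eq_iff_eq]
      exact (show act s 5 = 5 from hs.2).symm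
    show pack [_] = pack [_]
    simp only [dif_pos (by norm_num : 5 < 19530)]
    rw [map_mul, mul_inv_rev, Equiv.Perm.mul_apply, show (⟨5, (by norm_num : 5 < 19530)⟩ : Pt) = 5 from rfl, h5]

/-- The centraliser of the involution in `G₂(5)`. -/
theorem card_local_le : Nat.card (centralizer ({tP} : Set P)) ≤ 14400 := by
  set C := centralizer ({tP} : Set P)
  have hC0 : Nat.card (C ⊓ M0 : Subgroup P) ≤ 480 := by
    refine le_trans (card_le_image_mul act _
      (M0 ⊓ (MulAction.stabilizer (Equiv.Perm Pt) (5 : Pt)).comap act) (5 : Pt)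
      {i : Pt | fiveB i = true} (fun c hc => ?_) fun c hc he => ⟨hc.2, he⟩) ?_
    · show fiveB _ = true
      rw [fiveB, fix_act hc.1 (base_fix 5 le_rfl), cond_true]
      exact five_act hc.2 5 five_mem
    · exact le_trans (Nat.mul_le_mul (le_trans (card_le_cnt _ 15 (by norm_num)) cnt_five.le)
        card_stab_le) (by norm_num)
  refine le_trans (card_le_image_mul act C (C ⊓ M0) (0 : Pt) {i : Pt | blockB i = true}
    (fun c hc => block_of_centralizer hc) fun c hc he => ⟨hc, he⟩) ?_
  exact le_trans (Nat.mul_le_mul (le_trans (card_le_cnt _ 15 (by norm_num)) cnt_block.le) hC0)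
    (by norm_num)

end CfsgLib.LyInvol
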