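import Cfsg.Agent.LyInvol.Upper
import Cfsg.Prelude.Def_SporadicB
import Cfsg.Prelude.Def_Exceptional

/-!
The permutation representation of `Ly` on the 8835156 cosets of `G₂(5)`.
-/

set_option autoImplicit false
set_option maxRecDepth 100000

namespace CfsgLib.LyInvol

open CfsgLib.LyCert Subgroup

/-- A non-split double cover seen through an isomorphism. -/
theorem isNonsplitDoubleCover_congr {H H' K : Type*} [Group H] [Group H'] [Group K] (e : H ≃* H')
    (h : Cfsg.IsNonsplitDoubleCover H K) : Cfsg.IsNonsplitDoubleCover H' K := by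
  obtain ⟨h1, ⟨f⟩, h3⟩ := h
  have hz : (center H).map e.toMonoidHom = center H' := by
    ext x
    simp only [mem_map, mem_center_iff, MulEquiv.coe_toMonoidHom]
    constructor
    · rintro ⟨y, hy, rfl⟩ g
      obtain ⟨g, rfl⟩ := e.surjective g
      rw [← map_mul, ← map_mul, hy g]
    · intro hx
      exact ⟨e.symm x, fun g => e.injective (by simpa using hx (e g)), e.apply_symm_apply x⟩
  refine ⟨?_, ⟨(QuotientGroup.congr _ _ e hz).symm.trans f⟩, fun L hL => h3 (L.comap e.toMonoidHom) ?_⟩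
  · rw [← hz, card_map_of_injective e.injective, h1]
  · have hmap : (L.comap e.toMonoidHom).map e.toMonoidHom = L :=
      map_comap_eq_self_of_surjective e.surjective L
    have hinf : Disjoint (center H) (L.comap e.toMonoidHom) := by
      rw [disjoint_iff_inf_le]
      intro x hx
      have hex : e x ∈ center H' ⊓ L := ⟨hz ▸ mem_map_of_mem _ hx.1, hx.2⟩
      rw [hL.disjoint.eq_bot, mem_bot] at hex
      exact mem_bot.2 (e.injective (hex.trans (map_one e).symm))
    refine isComplement'_of_disjoint_and_mul_eq_univ hinf (Set.eq_univ_of_forall fun x => ?_)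
    obtain ⟨⟨⟨a, ha⟩, ⟨b, hb⟩⟩, hab⟩ := hL.2 (e x)
    rw [SetLike.mem_coe] at ha hb
    rw [← hz] at ha
    obtain ⟨a, ha', rfl⟩ := ha
    refine Set.mem_mul.2 ⟨a, ha', a⁻¹ * x, ?_, mul_inv_cancel_left a x⟩
    show e (a⁻¹ * x) ∈ L
    rw [map_mul, map_inv, ← hab]
    simpa using hb

/-- The Lyons group as a permutation group of degree 8835156, given the centraliser of `a⁴`. -/
theorem exists_perm_group (hord : orderOf tInv = 2)
    (hcov : Cfsg.IsNonsplitDoubleCover (centralizer ({tInv} : Set Cfsg.Spor.Ly))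
      (alternatingGroup (Fin 11))) :
    ∃ H : Subgroup (Equiv.Perm (Fin 8835156)), Cfsg.IsLy H ∧
      MulAction.IsPretransitive H (Fin 8835156) ∧
      Cfsg.IsG2 (MulAction.stabilizer H (0 : Fin 8835156)) ∧
      ∃ t : H, orderOf t = 2 ∧
        Cfsg.IsNonsplitDoubleCover (centralizer ({t} : Set H)) (alternatingGroup (Fin 11)) := by
  classical
  have hLy := isLy_of_dvd LyLower.card_dvd
  haveI := hLy.1
  have hidx := index_eq_of_dvd LyLower.card_dvd
  let X := Cfsg.Spor.Ly ⧸ Hs
  have hX : Nat.card X = 8835156 := hidx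
  let x0 : X := ((1 : Cfsg.Spor.Ly) : X)
  let e0 : X ≃ Fin 8835156 := Finite.equivFinOfCardEq hX
  let e : X ≃ Fin 8835156 := e0.trans (Equiv.swap (e0 x0) 0)
  have hex0 : e x0 = 0 := Equiv.swap_apply_left _ _
  let φ : Cfsg.Spor.Ly →* Equiv.Perm (Fin 8835156) :=
    e.permCongrHom.toMonoidHom.comp (MulAction.toPermHom Cfsg.Spor.Ly X)
  have hφ : ∀ (g : Cfsg.Spor.Ly) (i : Fin 8835156), φ g i = e (g • e.symm i) := fun _ _ => rfl
  have htrans : ∀ i j : Fin 8835156, ∃ g, φ g i = j := fun i j => by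
    obtain ⟨g, hg⟩ := MulAction.exists_smul_eq Cfsg.Spor.Ly (e.symm i) (e.symm j)
    exact ⟨g, by rw [hφ, hg, e.apply_symm_apply]⟩
  have hinj : Function.Injective φ := by
    refine (MonoidHom.ker_eq_bot_iff φ).1 ((φ.normal_ker.eq_bot_or_eq_top).resolve_right fun h => ?_)
    obtain ⟨g, hg⟩ := htrans ⟨0, by norm_num⟩ ⟨1, by norm_num⟩
    have : φ g = 1 := MonoidHom.mem_ker.1 (h ▸ mem_top g)
    rw [this, Equiv.Perm.one_apply] at hg
    exact absurd (congrArg Fin.val hg) (by norm_num)
  let E : Cfsg.Spor.Ly ≃* φ.range := MonoidHom.ofInjective hinj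
  have hE : ∀ (g : Cfsg.Spor.Ly) (i : Fin 8835156), E g • i = φ g i := fun _ _ => rfl
  have hstab : Hs.map E.toMonoidHom = MulAction.stabilizer φ.range (0 : Fin 8835156) := by
    ext h
    obtain ⟨g, rfl⟩ := E.surjective h
    rw [MulAction.mem_stabilizer_iff, hE, hφ,
      show e.symm 0 = x0 by rw [← hex0, e.symm_apply_apply],
      show E g = E.toMonoidHom g from rfl, mem_map_iff_mem (f := E.toMonoidHom) E.injective]
    conv_rhs => rw [← hex0, e.apply_eq_iff_eq]
    show g ∈ Hs ↔ g • ((1 : Cfsg.Spor.Ly) : X) = _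
    rw [MulAction.Quotient.smul_coe, smul_eq_mul, mul_one, QuotientGroup.eq, mul_one]
    exact Hs.inv_mem_iff.symm
  refine ⟨φ.range, ⟨?_, ?_⟩, ⟨fun i j => ?_⟩, ⟨?_, 5, ?_, by norm_num, ?_⟩, E tInv, ?_, ?_⟩
  · exact E.symm.isSimpleGroup
  · rw [← Nat.card_congr E.toEquiv]; exact hLy.2
  · obtain ⟨g, hg⟩ := htrans i j
    exact ⟨E g, hg⟩
  · rw [← hstab]
    haveI : IsSimpleGroup Hs := LySimple.isSimple_sub
    exact (Hs.equivMapOfInjective E.toMonoidHom E.injective).symm.isSimpleGroup
  · exact (Nat.prime_five).isPrimePow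
  · rw [← hstab, card_map_of_injective (f := E.toMonoidHom) E.injective, card_Hs]; norm_num
  · exact (orderOf_injective E.toMonoidHom E.injective tInv).trans hord
  · have hc : (centralizer ({tInv} : Set Cfsg.Spor.Ly)).map E.toMonoidHom =
        centralizer ({E tInv} : Set φ.range) := by
      ext h
      obtain ⟨g, rfl⟩ := E.surjective h
      rw [show E g = E.toMonoidHom g from rfl, mem_map_iff_mem (f := E.toMonoidHom) E.injective, mem_centralizer_iff,
        mem_centralizer_iff]
      simp only [Set.mem_singleton_iff, forall_eq, MulEquiv.coe_toMonoidHom, ← map_mul,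
        E.apply_eq_iff_eq]
    rw [← hc]
    exact isNonsplitDoubleCover_congr
      ((centralizer ({tInv} : Set Cfsg.Spor.Ly)).equivMapOfInjective E.toMonoidHom E.injective) hcov

end CfsgLib.LyInvol
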