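import Cfsg.Agent.LyInvol.Enum
import Cfsg.Agent.LyInvol.DataOrbit
import Cfsg.Agent.LyCert.Index

/-!
The fixed points of `a⁴` among the 19530 points, the blocks of five points, and the orbit of the
point `5` under the stabiliser of `0`.
-/

set_option autoImplicit false
set_option maxRecDepth 100000
set_option Elab.async false

namespace CfsgLib.LyInvol

open CfsgLib.CosetEnum CfsgLib.LyCert

/-- The involution fixes a point. -/
noncomputable def fixB (q : ℕ) : Bool :=
  bif Nat.blt q 19530 then Nat.beq (walk [0, 0, 0, 0] q) q else false

/-- The involution fixes the block of a point. -/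
noncomputable def blockB (q : ℕ) : Bool :=
  bif fixB q then force (Nat.mul 5 (Nat.div q 5)) fun b =>
    fixB b && (fixB (Nat.add b 1) && (fixB (Nat.add b 2) && (fixB (Nat.add b 3) && fixB (Nat.add b 4))))
  else false

/-- A point is in the orbit of `5`. -/
noncomputable def inFive (q : ℕ) : Bool := Nat.beq (look orbFive 512 1 1 q) 1

/-- A fixed point in the orbit of `5`. -/
noncomputable def fiveB (q : ℕ) : Bool := bif fixB q then inFive q else false

/-- The letters respect blocks. -/
noncomputable def okBlock (x q : ℕ) : Bool :=
  bif Nat.blt q 19530 then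
    Nat.beq (Nat.div (img x q) 5) (Nat.div (img x (Nat.mul 5 (Nat.div q 5))) 5)
  else true

/-- The generators of the stabiliser respect the orbit. -/
noncomputable def okFive (q : ℕ) : Bool :=
  bif Nat.blt q 19530 then
    bif inFive q then mList.all fun w => inFive (walk w q) else true
  else true

theorem blocks_ok : (List.range 16).all (fun x => allR (okBlock x) 15 0) = true := by decide +kernel

theorem five_ok : allR okFive 15 0 = true := by decide +kernel

theorem five_mem : inFive 5 = true := by decide +kernel

theorem base_ok : (fixB 0 && (fixB 1 && (fixB 2 && (fixB 3 && (fixB 4 && fixB 5))))) = true := by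
  decide +kernel

theorem cnt_fix : cntR fixB 15 0 = 66 := by decide +kernel

theorem cnt_block : cntR blockB 15 0 = 30 := by decide +kernel

theorem cnt_five : cntR fiveB 15 0 = 5 := by decide +kernel

theorem tP_moves : fixB 7 = false ∨ fixB 8 = false ∨ fixB 9 = false ∨ fixB 10 = false ∨
    fixB 11 = false := by decide +kernel

theorem tP_sq : eqW [0, 0, 0, 0, 0, 0, 0, 0] [] = true := by decide +kernel

end CfsgLib.LyInvol
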